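import Cfsg.Agent.Lib.BlockH.Pairs

/-!
# The principal block has `p`-regular rank one iff `G` has a normal `p`-complement
-/

set_option linter.unusedSectionVars false
set_option linter.style.haveILetI false
set_option autoImplicit false

namespace Cfsg.Agent.Lib.BlockH.Rank

open Cfsg MonoidAlgebra
open Cfsg.Agent.Lib.Blocks.Local Cfsg.Agent.Lib.Blocks.Central Cfsg.Agent.Lib.Blocks.Third
open Cfsg.Agent.Lib.Transfer.Basic
open scoped ComplexConjugate

universe u

variable {G : Type u} [Group G] [Fintype G] {M : Ideal AlgInt} {p : ℕ}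

/-- A nonempty set of irreducible characters has nonzero idempotent coefficient at `1`. -/
theorem blockCoeff_one_ne_zero {B : Set (IrrCharacter G)} (hB : B.Nonempty) :
    blockCoeff B (1 : G) ≠ 0 := by
  classical
  haveI := Cfsg.Agent.Lib.Char.Ortho.finite_irrCharacter (G := G)
  letI := Fintype.ofFinite (IrrCharacter G)
  rw [blockCoeff_eq_sum]
  have hcard : (Nat.card G : ℂ) ≠ 0 := Nat.cast_ne_zero.mpr Nat.card_pos.ne'
  refine mul_ne_zero (inv_ne_zero hcard) ?_
  have h1 : ∀ χ : IrrCharacter G, (if χ ∈ B then (χ : G → ℂ) 1 * conj ((χ : G → ℂ) 1) else 0) =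
      (((if χ ∈ B then charDegree (χ : G → ℂ) ^ 2 else 0 : ℕ)) : ℂ) := by
    intro χ
    have h2 := Cfsg.Agent.Lib.Char.Degree.charDegree_natCast
      (Cfsg.Agent.Lib.Char.Basic.isCharacter_of_isIrrCharacter χ.2)
    split_ifs
    · rw [← h2, Complex.conj_natCast]
      push_cast
      ring
    · simp
  simp_rw [h1]
  rw [← Nat.cast_sum]
  rw [Nat.cast_ne_zero]
  obtain ⟨χ, hχ⟩ := hB
  intro h0
  have h3 := (Finset.sum_eq_zero_iff.mp h0) χ (Finset.mem_univ χ)
  rw [if_pos hχ] at h3
  have h4 := Cfsg.Agent.Lib.Char.Degree.charDegree_pos χ.2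
  have := pow_pos h4 2
  omega

variable [Fact p.Prime]

/-- The regular part of the principal character. -/
noncomputable def regOne (p : ℕ) (G : Type u) [Group G] : G → ℂ := pRegularPart p (fun _ => 1)

theorem regOne_one : regOne p G (1 : G) = 1 := by
  classical
  have hp : p.Prime := Fact.out
  rw [regOne, Cfsg.Agent.Lib.BlockH.Regular.pRegularPart_apply, if_pos]
  simp only [IsPRegular, orderOf_one]
  exact fun h => hp.one_lt.ne' (Nat.dvd_one.mp h)

theorem regOne_ne_zero : regOne p G ≠ 0 := fun h => by
  have := congrFun h 1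
  rw [regOne_one] at this
  exact one_ne_zero this

/-- If `G` has a normal `p`-complement then the principal block has `p`-regular rank one. -/
theorem blockRank_eq_one_of_hasNormalPComplement (hM : IsPModular p M)
    (h : HasNormalPComplement p G) : blockRank p (principalBlock M G) = 1 := by
  classical
  haveI := isPrime_of_pModular hM
  have hcop := hasNormalPComplement_iff_pResidual.mp h
  have hnd : ¬ p ∣ Nat.card (pResidual p G) := by
    intro hd
    have := Nat.Coprime.eq_one_of_dvd hcop.symm hd
    exact (Fact.out : p.Prime).one_lt.ne' this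
  have hker : ∀ χ ∈ principalBlock M G, ∀ x : G, IsPRegular p x →
      (χ : G → ℂ) x = (χ : G → ℂ) 1 := by
    intro χ hχ x hx
    refine Cfsg.Agent.Lib.Blocks.General.eq_one_of_mem_principal hM inferInstance hnd hχ
      (mem_pResidual_of_coprime p ?_)
    exact ((Nat.Prime.coprime_iff_not_dvd Fact.out).mpr hx).symm
  have hspan : Submodule.span ℂ ((fun χ : IrrCharacter G => pRegularPart p (χ : G → ℂ)) ''
      principalBlock M G) = Submodule.span ℂ {regOne p G} := by
    apply le_antisymm
    · rw [Submodule.span_le]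
      rintro _ ⟨χ, hχ, rfl⟩
      have : pRegularPart p (χ : G → ℂ) = (χ : G → ℂ) 1 • regOne p G := by
        ext x
        simp only [Pi.smul_apply, regOne, smul_eq_mul]
        rw [Cfsg.Agent.Lib.BlockH.Regular.pRegularPart_apply,
          Cfsg.Agent.Lib.BlockH.Regular.pRegularPart_apply]
        split_ifs with hx
        · rw [hker χ hχ x hx, mul_one]
        · rw [mul_zero]
      simp only [SetLike.mem_coe]
      rw [this]
      exact Submodule.smul_mem _ _ (Submodule.mem_span_singleton_self _)
    · rw [Submodule.span_le, Set.singleton_subset_iff]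
      exact Submodule.subset_span ⟨oneI G, mem_blockOf_self (oneI G), rfl⟩
  rw [blockRank, hspan]
  exact finrank_span_singleton regOne_ne_zero

/-- If the principal block has `p`-regular rank one then `G` has a normal `p`-complement. -/
theorem hasNormalPComplement_of_blockRank_eq_one (hM : IsPModular p M)
    (h : blockRank p (principalBlock M G) = 1) : HasNormalPComplement p G := by
  classical
  haveI := isPrime_of_pModular hM
  set U := Submodule.span ℂ ((fun χ : IrrCharacter G => pRegularPart p (χ : G → ℂ)) ''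
      principalBlock M G) with hU
  have hvU : regOne p G ∈ U := Submodule.subset_span ⟨oneI G, mem_blockOf_self (oneI G), rfl⟩
  have hv : (⟨regOne p G, hvU⟩ : U) ≠ 0 := fun h0 => regOne_ne_zero (congrArg Subtype.val h0)
  have h1 := (finrank_eq_one_iff_of_nonzero' (⟨regOne p G, hvU⟩ : U) hv).mp h
  have hker : ∀ χ ∈ principalBlock M G, ∀ x : G, Nat.Coprime (orderOf x) p →
      (χ : G → ℂ) x = (χ : G → ℂ) 1 := by
    intro χ hχ x hx
    obtain ⟨c, hc⟩ := h1 ⟨pRegularPart p (χ : G → ℂ), Submodule.subset_span ⟨χ, hχ, rfl⟩⟩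
    have hc' : c • regOne p G = pRegularPart p (χ : G → ℂ) := congrArg Subtype.val hc
    have hreg : IsPRegular p x := fun hd => by
      have := Nat.Coprime.eq_one_of_dvd hx.symm hd
      exact (Fact.out : p.Prime).one_lt.ne' this
    have hreg1 : IsPRegular p (1 : G) := by
      simp only [IsPRegular, orderOf_one]
      exact fun h => (Fact.out : p.Prime).one_lt.ne' (Nat.dvd_one.mp h)
    have e1 := congrFun hc' 1
    have e2 := congrFun hc' x
    simp only [Pi.smul_apply, regOne, smul_eq_mul] at e1 e2
    rw [Cfsg.Agent.Lib.BlockH.Regular.pRegularPart_apply,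
      Cfsg.Agent.Lib.BlockH.Regular.pRegularPart_apply, if_pos hreg1, if_pos hreg1] at e1
    rw [Cfsg.Agent.Lib.BlockH.Regular.pRegularPart_apply,
      Cfsg.Agent.Lib.BlockH.Regular.pRegularPart_apply, if_pos hreg, if_pos hreg] at e2
    rw [← e1, ← e2]
  have hkerL : ∀ χ ∈ principalBlock M G, ∀ y ∈ pResidual p G,
      (χ : G → ℂ) y = (χ : G → ℂ) 1 := by
    intro χ hχ y hy
    have hc := Cfsg.Agent.Lib.Char.Basic.isCharacter_of_isIrrCharacter χ.2
    have hle : pResidual p G ≤ Cfsg.Agent.Lib.Char.Degree.charKer hc := by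
      rw [pResidual, Subgroup.closure_le]
      intro x hx
      exact hker χ hχ x hx
    exact hle hy
  apply hasNormalPComplement_iff_pResidual.mpr
  rw [Nat.coprime_comm, Nat.Prime.coprime_iff_not_dvd Fact.out]
  intro hd
  obtain ⟨y, hy⟩ := exists_prime_orderOf_dvd_card' (G := pResidual p G) p hd
  have hyG : orderOf (y : G) = p := by
    rw [Subgroup.orderOf_coe, hy]
  have h0 := Cfsg.Agent.Lib.BlockH.Idem.blockCoeff_eq_zero_of_dvd_orderOf hM
    (isPBlock_principal M) (g := (y : G)) (by rw [hyG])
  have h2 : blockCoeff (principalBlock M G) (y : G) = blockCoeff (principalBlock M G) (1 : G) := by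
    haveI := Cfsg.Agent.Lib.Char.Ortho.finite_irrCharacter (G := G)
    letI := Fintype.ofFinite (IrrCharacter G)
    rw [blockCoeff_eq_sum, blockCoeff_eq_sum]
    congr 1
    refine Fintype.sum_congr _ _ fun χ => ?_
    split_ifs with hχ
    · rw [hkerL χ hχ y y.2]
    · rfl
  rw [h2] at h0
  exact blockCoeff_one_ne_zero ⟨oneI G, mem_blockOf_self (oneI G)⟩ h0

end Cfsg.Agent.Lib.BlockH.Rank
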